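import Groth.Agent.Lib.Helper23.Tower.SheafTower
import Groth.Agent.Lib.Helper17.AffineVanish
import Groth.Agent.Lib.Helper17.AffineSurj
import Groth.Agent.Lib.Helper17.CohKer
import Groth.Prelude.Def_Formal2

/-!
# Towers of quasi-coherent modules with epimorphic transition maps (helper23)
-/

set_option autoImplicit false

universe u

open CategoryTheory Limits Abelian Opposite TopologicalSpace AlgebraicGeometry

namespace Groth.Agent.Lib.Helper23.Tower

variable {X : Scheme.{u}}

noncomputable instance toSheaf_preservesLimitsOfShape_nat :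
    PreservesLimitsOfShape ℕᵒᵖ (SheafOfModules.toSheaf.{u} X.ringCatSheaf) := by
  haveI : PreservesLimitsOfShape ℕᵒᵖ
      (SheafOfModules.toSheaf.{u} X.ringCatSheaf ⋙ sheafToPresheaf _ _) :=
    comp_preservesLimitsOfShape (SheafOfModules.forget.{u} X.ringCatSheaf)
      (PresheafOfModules.toPresheaf X.ringCatSheaf.obj)
  exact preservesLimitsOfShape_of_reflects_of_preserves _ (sheafToPresheaf _ _)

noncomputable instance restrictFunctor_preservesLimitsOfShape_nat {X Y : Scheme.{u}} (f : X ⟶ Y)
    [IsOpenImmersion f] : PreservesLimitsOfShape ℕᵒᵖ (Scheme.Modules.restrictFunctor f) := by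
  have e : Scheme.Modules.restrictFunctor f ⋙ Scheme.Modules.toPresheaf X ≅
      Scheme.Modules.toPresheaf Y ⋙ (Functor.whiskeringLeft _ _ _).obj f.opensFunctor.op :=
    NatIso.ofComponents (fun M => Iso.refl _) (by intros; rfl)
  have : PreservesLimitsOfSize.{0, 0} (Scheme.Modules.toPresheaf X) :=
    preservesSmallestLimits_of_preservesLimits _
  have : PreservesLimitsOfSize.{0, 0} (Scheme.Modules.toPresheaf Y) :=
    preservesSmallestLimits_of_preservesLimits _
  have h1 : PreservesLimitsOfShape ℕᵒᵖ ((Functor.whiskeringLeft _ _ Ab.{u}).obj f.opensFunctor.op) := inferInstance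
  have : PreservesLimitsOfShape ℕᵒᵖ (Scheme.Modules.toPresheaf Y ⋙
      (Functor.whiskeringLeft _ _ _).obj f.opensFunctor.op) :=
    comp_preservesLimitsOfShape (Scheme.Modules.toPresheaf Y)
      ((Functor.whiskeringLeft _ _ Ab.{u}).obj f.opensFunctor.op)
  have : PreservesLimitsOfShape ℕᵒᵖ
      (Scheme.Modules.restrictFunctor f ⋙ Scheme.Modules.toPresheaf X) :=
    preservesLimitsOfShape_of_natIso e.symm
  have : ReflectsLimitsOfShape ℕᵒᵖ (Scheme.Modules.toPresheaf X) :=
    reflectsLimitsOfShape_of_reflectsIsomorphisms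
  exact preservesLimitsOfShape_of_reflects_of_preserves _ (Scheme.Modules.toPresheaf X)

/-- for a surjective tower of abelian groups, `1 - shift` is surjective -/
lemma towerDiff_surjective_of_surjective (G : ℕ → Type u) [∀ n, AddCommGroup (G n)]
    (t : ∀ n, G (n + 1) →+ G n) (ht : ∀ n, Function.Surjective (t n)) :
    Function.Surjective (Formal2.towerDiff G t) := by
  intro y
  choose s hs using ht
  let x : ∀ n, G n := fun n => Nat.rec (motive := G) 0 (fun n xn => s n (xn - y n)) n
  refine ⟨x, funext fun n => ?_⟩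
  show x n - t n (x (n + 1)) = y n
  have : x (n + 1) = s n (x n - y n) := rfl
  rw [this, hs]
  abel

lemma subsingleton_limOne_of_towerDiff_surjective (G : ℕ → Type u) [∀ n, AddCommGroup (G n)]
    (t : ∀ n, G (n + 1) →+ G n) (h : Function.Surjective (Formal2.towerDiff G t)) :
    Subsingleton (Formal2.limOne G t) := by
  refine ⟨fun a b => ?_⟩
  obtain ⟨x, rfl⟩ := QuotientAddGroup.mk_surjective a
  obtain ⟨y, rfl⟩ := QuotientAddGroup.mk_surjective b
  rw [QuotientAddGroup.eq]
  exact h _

section

variable (G : ℕᵒᵖ ⥤ X.Modules)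
  (hq : ∀ n, (G.obj (op n)).IsQuasicoherent)
  (he : ∀ n, Epi (G.map (homOfLE (Nat.le_succ n)).op))

/-- the underlying tower of abelian sheaves -/
noncomputable abbrev abTower : ℕᵒᵖ ⥤ CohTop.Ab X.toTopCat :=
  G ⋙ SheafOfModules.toSheaf.{u} X.ringCatSheaf

/-- the limit cone of the underlying tower of abelian sheaves -/
noncomputable abbrev abCone : Cone (abTower G) :=
  (SheafOfModules.toSheaf.{u} X.ringCatSheaf).mapCone (limit.cone G)

/-- it is a limit cone -/
noncomputable def abConeIsLimit : IsLimit (abCone G) :=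
  isLimitOfPreserves (SheafOfModules.toSheaf.{u} X.ringCatSheaf) (limit.isLimit G)

include hq he in
lemma qcoh_hsurj : ∀ V ∈ {V : X.Opens | IsAffineOpen V}, ∀ n : ℕ,
    Function.Surjective (((abTower G).map (homOfLE (Nat.le_succ n)).op).hom.app (op V)).hom := by
  intro V hV n
  haveI := hq n
  haveI := hq (n + 1)
  haveI := he n
  let t := G.map (homOfLE (Nat.le_succ n)).op
  let S : ShortComplex X.Modules := ShortComplex.mk (kernel.ι t) t (kernel.condition t)
  have hS : S.ShortExact :=
    { exact := ShortComplex.exact_of_f_is_kernel _ (kernelIsKernel t)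
      mono_f := inferInstanceAs (Mono (kernel.ι t))
      epi_g := inferInstanceAs (Epi t) }
  haveI : S.X₁.IsQuasicoherent :=
    Groth.Agent.Lib.Helper17.CohKer.isQuasicoherent_kernel t
  have := Groth.Agent.Lib.Helper17.AffineSurj.surjective_app_of_shortExact S hS hV
  intro y
  obtain ⟨x, hx⟩ := this y
  exact ⟨x, hx⟩

include hq in
lemma qcoh_hvan : ∀ V ∈ {V : X.Opens | IsAffineOpen V}, ∀ (n i : ℕ), 0 < i →
    Subsingleton (CohTop.HU ((abTower G).obj (op n)) i V) := by
  intro V hV n i hi
  obtain ⟨k, rfl⟩ : ∃ k, i = k + 1 := ⟨i - 1, by omega⟩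
  haveI := hq n
  exact Groth.Agent.Lib.Helper17.AffineVanish.subsingleton_HU_of_isAffineOpen (G.obj (op n)) hV k

include hq he in
/-- On an affine scheme, the limit of a tower of quasi-coherent modules with epimorphic transition
maps has no higher cohomology. -/
theorem subsingleton_H_lim_of_isAffine [IsAffine X] {c : Cone (abTower G)} (hc : IsLimit c)
    (j : ℕ) : Subsingleton (Sheaf.H c.pt (j + 1)) := by
  let A : CohTop.Ab X.toTopCat :=
    (constantSheaf (Opens.grothendieckTopology X) AddCommGrpCat.{u}).obj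
      (AddCommGrpCat.of (ULift ℤ))
  obtain ⟨-, ⟨e⟩⟩ := sheaf_tower_main_cone (abTower G) hc {V : X.Opens | IsAffineOpen V}
    X.isBasis_affineOpens (qcoh_hsurj G hq he) (qcoh_hvan G hq) A j
  have hvanX : ∀ (n k : ℕ), Subsingleton (Ext A (tObj (abTower G) n) (k + 1)) := by
    intro n k
    haveI := hq n
    exact Groth.Agent.Lib.Helper17.AffineVanish.subsingleton_H_of_isAffine (G.obj (op n)) k
  have hlim : Subsingleton (Formal2.limOne (fun n => Ext A (tObj (abTower G) n) j)
      (tPost (abTower G) A j)) := by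
    cases j with
    | zero =>
      apply subsingleton_limOne_of_towerDiff_surjective
      apply towerDiff_surjective_of_surjective
      intro n y
      exact Groth.Agent.Lib.Helper6.SheafCoh.H_zero_surj_of_sections_surj
        (J := Opens.grothendieckTopology X) (T := (⊤ : X.Opens)) isTerminalTop
        ((abTower G).map (homOfLE (Nat.le_succ n)).op)
        (qcoh_hsurj G hq he ⊤ (isAffineOpen_top X) n) y
    | succ k =>
      haveI := fun n => hvanX n k
      refine ⟨fun a b => ?_⟩
      obtain ⟨x, rfl⟩ := QuotientAddGroup.mk_surjective a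
      obtain ⟨y, rfl⟩ := QuotientAddGroup.mk_surjective b
      rw [Subsingleton.elim x y]
  haveI := fun n => hvanX n j
  refine ⟨fun a b => ?_⟩
  have hmem : ∀ η : Ext A c.pt (j + 1), η ∈ (piMapC c A (j + 1)).ker := fun η =>
    Subsingleton.elim _ _
  have h0 : (⟨a, hmem a⟩ : (piMapC c A (j + 1)).ker) = ⟨b, hmem b⟩ :=
    e.injective (Subsingleton.elim _ _)
  exact congrArg Subtype.val h0

end

end Groth.Agent.Lib.Helper23.Tower
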