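import Groth.Agent.Lib.Helper23.Tower.ModTower
import Groth.Agent.Lib.Helper23.Tower.QCohTower
import Groth.Agent.Lib.Helper17.HCompare

/-!
# Towers of quasi-coherent modules: the limit is a derived limit in `D(O_X)` (helper23)
-/

set_option autoImplicit false

universe u

open CategoryTheory Limits Abelian Opposite TopologicalSpace AlgebraicGeometry

namespace Groth.Agent.Lib.Helper23.Tower

variable {X : Scheme.{u}}

/-- an epimorphism of quasi-coherent modules is surjective on sections over affine opens -/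
lemma surj_sections_of_epi {M N : X.Modules} (f : M ⟶ N) [Epi f] [M.IsQuasicoherent]
    [N.IsQuasicoherent] {V : X.Opens} (hV : IsAffineOpen V) :
    Function.Surjective (((SheafOfModules.toSheaf.{u} X.ringCatSheaf).map f).hom.app (op V)).hom := by
  let S : ShortComplex X.Modules := ShortComplex.mk (kernel.ι f) f (kernel.condition f)
  have hS : S.ShortExact :=
    { exact := ShortComplex.exact_of_f_is_kernel _ (kernelIsKernel f)
      mono_f := inferInstanceAs (Mono (kernel.ι f))
      epi_g := inferInstanceAs (Epi f) }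
  haveI : S.X₁.IsQuasicoherent :=
    Groth.Agent.Lib.Helper17.CohKer.isQuasicoherent_kernel f
  have := Groth.Agent.Lib.Helper17.AffineSurj.surjective_app_of_shortExact S hS hV
  intro y
  obtain ⟨x, hx⟩ := this y
  exact ⟨x, hx⟩

/-- `lim¹ = 0` for towers of abelian groups whose transition maps are surjective from index one on -/
lemma secLimOne_of_surj_ge_one (A : ℕ → Type u) [∀ n, AddCommGroup (A n)]
    (t : ∀ n, A (n + 1) →+ A n) (ht : ∀ n, 1 ≤ n → Function.Surjective (t n)) :
    Function.Surjective (fun (a : ∀ n, A n) (n : ℕ) => a n - t n (a (n + 1))) := by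
  intro y
  have hs : ∀ n, ∃ s : A n → A (n + 1), 1 ≤ n → ∀ z, t n (s z) = z := by
    intro n
    by_cases hn : 1 ≤ n
    · choose s hs using ht n hn
      exact ⟨s, fun _ => hs⟩
    · exact ⟨fun _ => 0, fun h => absurd h hn⟩
  choose s hs using hs
  let x' : ∀ k, A (k + 1) := fun k =>
    Nat.rec (motive := fun k => A (k + 1)) 0 (fun k xk => s (k + 1) (xk - y (k + 1))) k
  have hx' : ∀ k, x' (k + 1) = s (k + 1) (x' k - y (k + 1)) := fun k => rfl
  let x : ∀ n, A n := fun n =>
    match n with
    | 0 => y 0 + t 0 (x' 0)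
    | (k + 1) => x' k
  refine ⟨x, funext fun n => ?_⟩
  cases n with
  | zero =>
    show (y 0 + t 0 (x' 0)) - t 0 (x' 0) = y 0
    abel
  | succ k =>
    show x' k - t (k + 1) (x' (k + 1)) = y (k + 1)
    rw [hx', hs (k + 1) (Nat.succ_pos k)]
    abel

section

variable (F : ℕ → X.Modules) (t : ∀ n, F (n + 1) ⟶ F n)
  (hF : ∀ n, (F n).IsQuasicoherent) (ht : ∀ n, 1 ≤ n → Epi (t n))

include hF in
lemma rlim_h1 : ∀ V ∈ {V : X.Opens | IsAffineOpen V}, ∀ (p n : ℕ), Subsingleton
    (CohSite.HU ((SheafOfModules.toSheaf.{u} X.ringCatSheaf).obj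
      ((Functor.ofOpSequence t).obj (op n))) (p + 1) V) := by
  intro V hV p n
  haveI := hF n
  exact Groth.Agent.Lib.Helper17.AffineVanish.subsingleton_HU_of_isAffineOpen (F n) hV p

include hF ht in
lemma rlim_h2 : ∀ V ∈ {V : X.Opens | IsAffineOpen V},
    SecLimOneZero (Functor.ofOpSequence t ⋙ SheafOfModules.toSheaf.{u} X.ringCatSheaf) V := by
  intro V hV
  have e : ∀ n, (Functor.ofOpSequence t).map (homOfLE (Nat.le_succ n)).op = t n :=
    fun n => Functor.ofOpSequence_map_homOfLE_succ t n
  have key := secLimOne_of_surj_ge_one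
    (fun n => ((SheafOfModules.toSheaf.{u} X.ringCatSheaf).obj (F n)).obj.obj (op V))
    (fun n => (((SheafOfModules.toSheaf.{u} X.ringCatSheaf).map (t n)).hom.app (op V)).hom)
    (fun n hn => by
      haveI := hF n
      haveI := hF (n + 1)
      haveI := ht n hn
      exact surj_sections_of_epi (t n) hV)
  intro y
  obtain ⟨a, ha⟩ := key y
  refine ⟨a, ?_⟩
  funext n
  have h := congrFun ha n
  simp only [Functor.comp_map, e]
  exact h

end

end Groth.Agent.Lib.Helper23.Tower
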