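import Groth.Agent.Lib.Helper23.Tower.ExtTower
import Mathlib.Algebra.Homology.DerivedCategory.TStructure
import Mathlib.Algebra.Homology.DerivedCategory.SingleTriangle
import Mathlib.Algebra.Homology.DerivedCategory.HomologySequence
import Mathlib.Algebra.Homology.SingleHomology
import Mathlib.CategoryTheory.Triangulated.Yoneda
import Mathlib.CategoryTheory.Triangulated.HomologicalFunctor
import Groth.Prelude.Def_DCoh2

/-!
# Underived products of acyclic families are derived products (helper23)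

`𝒜` abelian with a derived category, `Z : β → 𝒜` detecting zero morphisms.
* `isZero_of_hom_single_eq_zero`: an object `C` of `D(𝒜)` with `Hom(Z b [0], C⟦m⟧) = 0` for all
  `b, m` is zero.
* `isIso_singleProdCmp`: for a family `F` with `Ext^{k+1}(Z b, F t) = 0`, the canonical map
  `(∏ᶜ F)[0] ⟶ ∏ᶜ (F t [0])` in `D(𝒜)` is an isomorphism.
-/

set_option autoImplicit false

universe w w' v u t

open CategoryTheory Limits Abelian Opposite Pretriangulated

namespace Groth.Agent.Lib.Helper23.Tower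

variable {𝒜 : Type u} [Category.{v} 𝒜] [Abelian 𝒜] [HasDerivedCategory.{w'} 𝒜]

open DerivedCategory

lemma comp_homologyπ_eq_zero (K : CochainComplex 𝒜 ℤ) (n : ℤ) {A : 𝒜} (g : A ⟶ K.cycles n)
    (h : ∀ f : (singleFunctor 𝒜 n).obj A ⟶ Q.obj K, f = 0) : g ≫ K.homologyπ n = 0 := by
  let φ := g ≫ K.iCycles n
  have hφ : ∀ k, (ComplexShape.up ℤ).Rel n k → φ ≫ K.d n k = 0 := by
    intro k _
    simp [φ]
  let ĝ := HomologicalComplex.mkHomFromSingle φ hφ
  have h0 : Q.map ĝ = 0 := h _
  have h1 : HomologicalComplex.homologyMap ĝ n = 0 := by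
    have nat := (homologyFunctorFactors 𝒜 n).hom.naturality ĝ
    simp only [Functor.comp_map, h0, Functor.map_zero, zero_comp] at nat
    exact (cancel_epi ((homologyFunctorFactors 𝒜 n).hom.app _)).1
      (nat.symm.trans comp_zero.symm)
  have h2 : (HomologicalComplex.singleObjCyclesSelfIso (ComplexShape.up ℤ) n A).inv ≫
      HomologicalComplex.cyclesMap ĝ n = g := by
    rw [← cancel_mono (K.iCycles n), Category.assoc, HomologicalComplex.cyclesMap_i,
      HomologicalComplex.singleObjCyclesSelfIso_inv_iCycles_assoc,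
      HomologicalComplex.mkHomFromSingle_f, Iso.inv_hom_id_assoc]
  rw [← h2, Category.assoc, ← HomologicalComplex.homologyπ_naturality, h1, comp_zero, comp_zero]

section Detect

variable {β : Type*} {Z : β → 𝒜}

theorem isZero_of_hom_single_eq_zero (hZ : Gen Z) (C : DerivedCategory 𝒜)
    (h : ∀ (b : β) (m : ℤ) (f : (singleFunctor 𝒜 0).obj (Z b) ⟶ C⟦m⟧), f = 0) : IsZero C := by
  let K := Q.objPreimage C
  let e : Q.obj K ≅ C := Q.objObjPreimageIso C
  have hK : ∀ (b : β) (n : ℤ) (f : (singleFunctor 𝒜 n).obj (Z b) ⟶ Q.obj K), f = 0 := by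
    intro b n f
    have h1 := h b n (((singleFunctors 𝒜).shiftIso n 0 n (add_zero n)).inv.app (Z b) ≫
      (f ≫ e.hom)⟦n⟧')
    have h2 : (f ≫ e.hom)⟦n⟧' = 0 := by
      have := congrArg (fun z => ((singleFunctors 𝒜).shiftIso n 0 n (add_zero n)).hom.app (Z b) ≫ z) h1
      simpa using this
    have h3 : f ≫ e.hom = 0 := (shiftFunctor (DerivedCategory 𝒜) n).map_injective (by
      rw [h2, Functor.map_zero])
    rw [← cancel_mono e.hom, h3, zero_comp]
  have hH : ∀ n : ℤ, IsZero (K.homology n) := by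
    intro n
    have : K.homologyπ n = 0 := by
      apply hZ
      intro b g
      exact comp_homologyπ_eq_zero K n g (hK b n)
    exact IsZero.of_epi_eq_zero _ this
  have hH' : ∀ n : ℤ, IsZero ((homologyFunctor 𝒜 n).obj C) := fun n =>
    (hH n).of_iso ((homologyFunctor 𝒜 n).mapIso e.symm ≪≫ (homologyFunctorFactors 𝒜 n).app K)
  have hiso : IsIso (0 : C ⟶ C) := by
    rw [DerivedCategory.isIso_iff]
    intro n
    exact ⟨0, (hH' n).eq_of_src _ _, (hH' n).eq_of_src _ _⟩
  rw [IsZero.iff_id_eq_zero]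
  have := IsIso.hom_inv_id (0 : C ⟶ C)
  rw [zero_comp] at this
  exact this.symm

end Detect

section Prod

variable [HasExt.{w} 𝒜] {β : Type*} {Z : β → 𝒜} {T : Type t} [HasProductsOfShape T 𝒜]
  (F : T → 𝒜)

lemma psi_bijective [EnoughInjectives 𝒜] (hZ : Gen Z) (hF : ZAcyc Z F) (b : β) (n : ℤ) :
    Function.Bijective
      (fun (x : (singleFunctor 𝒜 0).obj (Z b) ⟶ ((singleFunctor 𝒜 0).obj (∏ᶜ F))⟦n⟧) (t : T) =>
        x ≫ ((singleFunctor 𝒜 0).map (Pi.π F t))⟦n⟧') := by
  rcases le_or_gt 0 n with hn | hn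
  · obtain ⟨i, rfl⟩ := Int.eq_ofNat_of_zero_le hn
    have hc := cmp_bijective hZ i F hF (Z b)
    have comm : ∀ (x' : Ext (Z b) (∏ᶜ F) i) (t : T),
        x'.hom ≫ ((singleFunctor 𝒜 0).map (Pi.π F t))⟦(i : ℤ)⟧' = (cmp F (Z b) i x' t).hom := by
      intro x' t
      rw [cmp_apply, Ext.comp_hom, Ext.mk₀_hom, ShiftedHom.comp_mk₀]
    constructor
    · intro x y hxy
      obtain ⟨x', rfl⟩ := Ext.homEquiv.surjective x
      obtain ⟨y', rfl⟩ := Ext.homEquiv.surjective y
      congr 1
      apply hc.1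
      funext t
      apply Ext.homEquiv.injective
      have := congrFun hxy t
      exact ((comm x' t).symm.trans this).trans (comm y' t)
    · intro ξ
      choose ξ' hξ' using fun t => Ext.homEquiv.surjective (ξ t)
      obtain ⟨x', hx'⟩ := hc.2 ξ'
      refine ⟨x'.hom, ?_⟩
      funext t
      refine (comm x' t).trans ?_
      rw [hx']
      exact hξ' t
  · have hS : ∀ (Y : 𝒜) (x : (singleFunctor 𝒜 0).obj (Z b) ⟶ ((singleFunctor 𝒜 0).obj Y)⟦n⟧),
        x = 0 := by
      intro Y x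
      haveI : TStructure.t.IsGE (((singleFunctor 𝒜 0).obj Y)⟦n⟧) (-n) :=
        TStructure.t.isGE_shift ((singleFunctor 𝒜 0).obj Y) 0 n (-n) (by omega)
      exact TStructure.t.zero x 0 (-n) (by omega)
    constructor
    · intro x y _
      rw [hS _ x, hS _ y]
    · intro ξ
      refine ⟨0, ?_⟩
      funext t
      exact zero_comp.trans (hS _ (ξ t)).symm

variable [HasProduct fun t => (singleFunctor 𝒜 0).obj (F t)]

/-- the comparison map from the underived product to the derived product -/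
noncomputable def singleProdCmp :
    (singleFunctor 𝒜 0).obj (∏ᶜ F) ⟶ ∏ᶜ fun t => (singleFunctor 𝒜 0).obj (F t) :=
  Pi.lift fun t => (singleFunctor 𝒜 0).map (Pi.π F t)

@[reassoc (attr := simp)]
lemma singleProdCmp_π (t : T) :
    singleProdCmp F ≫ Pi.π (fun t => (singleFunctor 𝒜 0).obj (F t)) t =
      (singleFunctor 𝒜 0).map (Pi.π F t) := by
  simp [singleProdCmp]

theorem isIso_singleProdCmp [EnoughInjectives 𝒜] (hZ : Gen Z) (hF : ZAcyc Z F) :
    IsIso (singleProdCmp F) := by
  obtain ⟨C, g, h, hT⟩ := distinguished_cocone_triangle (singleProdCmp F)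
  have hC : IsZero C := by
    apply isZero_of_hom_single_eq_zero hZ
    intro b m f
    let Fb := preadditiveCoyoneda.obj (op ((singleFunctor 𝒜 0).obj (Z b)))
    have hiso : ∀ n : ℤ, IsIso ((Fb.shift n).map (singleProdCmp F)) := by
      intro n
      rw [ConcreteCategory.isIso_iff_bijective]
      let K : T → DerivedCategory 𝒜 := fun t => (singleFunctor 𝒜 0).obj (F t)
      have hPn : IsLimit (Fan.mk ((∏ᶜ K)⟦n⟧) (fun t => (Pi.π K t)⟦n⟧')) :=
        isLimitFanMkObjOfIsLimit (shiftFunctor (DerivedCategory 𝒜) n) K (Pi.π K)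
          (productIsProduct K)
      let Bm : ((singleFunctor 𝒜 0).obj (Z b) ⟶ (∏ᶜ K)⟦n⟧) →
          ∀ t, ((singleFunctor 𝒜 0).obj (Z b) ⟶ (K t)⟦n⟧) := fun y t => y ≫ (Pi.π K t)⟦n⟧'
      have hB : Function.Bijective Bm := by
        constructor
        · intro y y' hyy'
          exact Fan.IsLimit.hom_ext hPn _ _ (fun t => congrFun hyy' t)
        · intro ξ
          exact ⟨Fan.IsLimit.lift hPn ξ, funext fun t => Fan.IsLimit.fac hPn ξ t⟩
      let Φ : ((singleFunctor 𝒜 0).obj (Z b) ⟶ ((singleFunctor 𝒜 0).obj (∏ᶜ F))⟦n⟧) →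
          ((singleFunctor 𝒜 0).obj (Z b) ⟶ (∏ᶜ K)⟦n⟧) := fun x => x ≫ (singleProdCmp F)⟦n⟧'
      have hΦ : Function.Bijective Φ := by
        rw [← Function.Bijective.of_comp_iff' hB Φ]
        have : Bm ∘ Φ = fun x t => x ≫ ((singleFunctor 𝒜 0).map (Pi.π F t))⟦n⟧' := by
          funext x t
          show (x ≫ (singleProdCmp F)⟦n⟧') ≫ (Pi.π K t)⟦n⟧' = _
          rw [Category.assoc, ← Functor.map_comp, singleProdCmp_π]
        rw [this]
        exact psi_bijective F hZ hF b n
      exact hΦ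
    have hk : Fb.homologicalKernel.trW (singleProdCmp F) :=
      (Fb.mem_homologicalKernel_trW_iff _).2 hiso
    have hk' : Fb.homologicalKernel C :=
      (Fb.homologicalKernel.trW_iff_of_distinguished _ hT).1 hk
    have hz : IsZero ((Fb.shift m).obj C) := (Fb.mem_homologicalKernel_iff C).1 hk' m
    haveI : Subsingleton ((Fb.shift m).obj C) := AddCommGrpCat.subsingleton_of_isZero hz
    exact Subsingleton.elim (α := ((Fb.shift m).obj C)) f 0
  exact (Triangle.isZero₃_iff_isIso₁ _ hT).1 hC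

end Prod

section Rlim

variable [HasExt.{w} 𝒜] [EnoughInjectives 𝒜] [HasProductsOfShape ℕ 𝒜] {β : Type*} {Z : β → 𝒜}
  (G : ℕᵒᵖ ⥤ 𝒜) [HasProduct fun n => (singleFunctor 𝒜 0).obj (tObj G n)]

lemma single_tD_comm :
    (singleFunctor 𝒜 0).map (tD G) ≫ singleProdCmp (tObj G) =
      singleProdCmp (tObj G) ≫
        Pi.lift (fun n => Pi.π (fun n => (singleFunctor 𝒜 0).obj (tObj G n)) n -
          Pi.π (fun n => (singleFunctor 𝒜 0).obj (tObj G n)) (n + 1) ≫
            (singleFunctor 𝒜 0).map (tMap G n)) := by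
  apply Pi.hom_ext
  intro n
  rw [Category.assoc, Category.assoc, singleProdCmp_π, Pi.lift_π, Preadditive.comp_sub,
    singleProdCmp_π, singleProdCmp_π_assoc, ← Functor.map_comp, ← Functor.map_comp, tD_π,
    Functor.map_sub]

/-- For a tower acyclic against a generating family and with `1 - shift` an epimorphism, the
limit (in degree zero) is a derived limit. -/
theorem isRlim_of_tower {c : Cone G} (hc : IsLimit c) (hZ : Gen Z) (hacyc : ZAcyc Z (tObj G))
    (hepi : Epi (tD G)) :
    DCoh.IsRlim (fun n => (singleFunctor 𝒜 0).obj (tObj G n))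
      (fun n => (singleFunctor 𝒜 0).map (tMap G n)) ((singleFunctor 𝒜 0).obj c.pt) := by
  have hS := tSCC_shortExact hc hepi
  haveI := isIso_singleProdCmp (tObj G) hZ hacyc
  let e := asIso (singleProdCmp (tObj G))
  refine ⟨(singleFunctor 𝒜 0).map (tιC c) ≫ e.hom, e.inv ≫ hS.singleδ, ?_⟩
  refine isomorphic_distinguished _ hS.singleTriangle_distinguished _ ?_
  refine Triangle.isoMk _ _ (Iso.refl _) e.symm e.symm ?_ ?_ ?_
  · show ((singleFunctor 𝒜 0).map (tιC c) ≫ e.hom) ≫ e.inv =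
      𝟙 _ ≫ (singleFunctor 𝒜 0).map (tιC c)
    rw [Category.assoc, Iso.hom_inv_id, Category.comp_id, Category.id_comp]
  · show Pi.lift (fun n => Pi.π (fun n => (singleFunctor 𝒜 0).obj (tObj G n)) n -
          Pi.π (fun n => (singleFunctor 𝒜 0).obj (tObj G n)) (n + 1) ≫
            (singleFunctor 𝒜 0).map (tMap G n)) ≫ e.inv =
      e.inv ≫ (singleFunctor 𝒜 0).map (tD G)
    rw [← cancel_epi e.hom, Iso.hom_inv_id_assoc, ← Category.assoc]
    have h1 : e.hom ≫ Pi.lift (fun n => Pi.π (fun n => (singleFunctor 𝒜 0).obj (tObj G n)) n -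
          Pi.π (fun n => (singleFunctor 𝒜 0).obj (tObj G n)) (n + 1) ≫
            (singleFunctor 𝒜 0).map (tMap G n)) =
        (singleFunctor 𝒜 0).map (tD G) ≫ e.hom := (single_tD_comm G).symm
    rw [h1, Category.assoc, Iso.hom_inv_id, Category.comp_id]
  · show (e.inv ≫ hS.singleδ) ≫ (𝟙 ((singleFunctor 𝒜 0).obj c.pt))⟦(1 : ℤ)⟧' =
      e.inv ≫ hS.singleδ
    rw [CategoryTheory.Functor.map_id, Category.comp_id]

end Rlim

end Groth.Agent.Lib.Helper23.Tower
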