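import Mathlib.Algebra.Homology.DerivedCategory.Ext.ExactSequences
import Mathlib.Algebra.Homology.DerivedCategory.Ext.EnoughInjectives
import Mathlib.CategoryTheory.Preadditive.Injective.Basic

/-!
# `Ext^i(A, ∏ F_t) → ∏ Ext^i(A, F_t)` is bijective for families acyclic against a generating family
(helper23)

`𝒜` abelian with enough injectives, `Z : β → 𝒜` a family of objects detecting zero morphisms.  If
`Ext^{k+1}(Z b, F t) = 0` for all `b, t, k`, then for every `A` and `i` the comparison map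
`Ext^i(A, ∏ F) → ∏ Ext^i(A, F t)` is bijective (dimension shifting).
-/

set_option autoImplicit false

universe w v u t

open CategoryTheory Limits Abelian

namespace Groth.Agent.Lib.Helper23.Tower

variable {𝒜 : Type u} [Category.{v} 𝒜] [Abelian 𝒜] [HasExt.{w} 𝒜]

/-- a family of objects detecting zero morphisms -/
def Gen {β : Type*} (Z : β → 𝒜) : Prop :=
  ∀ ⦃X Y : 𝒜⦄ (f : X ⟶ Y), (∀ (b : β) (g : Z b ⟶ X), g ≫ f = 0) → f = 0

lemma epi_of_gen {β : Type*} {Z : β → 𝒜} (hZ : Gen Z) {X Y : 𝒜} (φ : X ⟶ Y)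
    (h : ∀ (b : β) (g : Z b ⟶ Y), ∃ g' : Z b ⟶ X, g' ≫ φ = g) : Epi φ := by
  apply Preadditive.epi_of_cancel_zero
  intro W c hc
  apply hZ
  intro b g
  obtain ⟨g', rfl⟩ := h b g
  rw [Category.assoc, hc, comp_zero]

/-- acyclicity of a family against the test objects -/
def ZAcyc {β : Type*} (Z : β → 𝒜) {T : Type t} (F : T → 𝒜) : Prop :=
  ∀ (b : β) (t : T) (k : ℕ) (x : Ext (Z b) (F t) (k + 1)), x = 0

variable {T : Type t} [HasProductsOfShape T 𝒜]

/-- the comparison map -/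
noncomputable def cmp (F : T → 𝒜) (A : 𝒜) (i : ℕ) : Ext A (∏ᶜ F) i →+ ∀ t, Ext A (F t) i :=
  AddMonoidHom.pi (fun t => (Ext.mk₀ (Pi.π F t)).postcomp A (add_zero i))

lemma cmp_apply (F : T → 𝒜) (A : 𝒜) (i : ℕ) (x : Ext A (∏ᶜ F) i) (t : T) :
    cmp F A i x t = x.comp (Ext.mk₀ (Pi.π F t)) (add_zero i) := rfl

lemma cmp_zero_bijective (F : T → 𝒜) (A : 𝒜) : Function.Bijective (cmp F A 0) := by
  constructor
  · intro x y h
    obtain ⟨f, rfl⟩ := (Ext.mk₀_bijective _ _).2 x
    obtain ⟨g, rfl⟩ := (Ext.mk₀_bijective _ _).2 y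
    congr 1
    apply Pi.hom_ext
    intro t
    have := congrFun h t
    rw [cmp_apply, cmp_apply, Ext.mk₀_comp_mk₀, Ext.mk₀_comp_mk₀] at this
    exact (Ext.mk₀_bijective _ _).1 this
  · intro ξ
    choose f hf using fun t => (Ext.mk₀_bijective _ _).2 (ξ t)
    refine ⟨Ext.mk₀ (Pi.lift f), ?_⟩
    funext t
    rw [cmp_apply, Ext.mk₀_comp_mk₀, Pi.lift_π, hf]

section

variable (E : T → ShortComplex 𝒜)

/-- the product short complex -/
noncomputable abbrev prodSC : ShortComplex 𝒜 :=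
  ShortComplex.mk (Limits.Pi.map fun i => (E i).f) (Limits.Pi.map fun i => (E i).g) (by
    ext i
    simp)

variable {E}

lemma prodSC_exact (hE : ∀ i, (E i).ShortExact) : (prodSC E).Exact := by
  have : ∀ i, Mono (E i).f := fun i => (hE i).mono_f
  apply ShortComplex.exact_of_f_is_kernel
  refine KernelFork.IsLimit.ofι' _ _ fun {W} h hh => ?_
  have hk : ∀ i, (h ≫ Pi.π _ i) ≫ (E i).g = 0 := fun i => by
    have := congrArg (fun z => z ≫ Pi.π _ i) hh
    simpa using this
  refine ⟨Pi.lift fun i => (hE i).exact.lift (h ≫ Pi.π _ i) (hk i), ?_⟩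
  ext i
  simp

/-- the projection from the product short complex -/
noncomputable def prodSCπ (E : T → ShortComplex 𝒜) (t : T) : prodSC E ⟶ E t where
  τ₁ := Pi.π _ t
  τ₂ := Pi.π _ t
  τ₃ := Pi.π _ t
  comm₁₂ := by simp
  comm₂₃ := by simp

lemma prodSC_epi_g {β : Type*} {Z : β → 𝒜} (hZ : Gen Z) (hE : ∀ i, (E i).ShortExact)
    (h1 : ∀ (b : β) (t : T) (x : Ext (Z b) (E t).X₁ 1), x = 0) : Epi (prodSC E).g := by
  apply epi_of_gen hZ
  intro b g
  have hl : ∀ t, ∃ a : Z b ⟶ (E t).X₂, a ≫ (E t).g = g ≫ Pi.π _ t := by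
    intro t
    obtain ⟨a, ha⟩ := Ext.covariant_sequence_exact₃ (Z b) (hE t)
      (Ext.mk₀ (g ≫ Pi.π _ t)) (zero_add 1) (h1 b t _)
    obtain ⟨a, rfl⟩ := (Ext.mk₀_bijective _ _).2 a
    rw [Ext.mk₀_comp_mk₀] at ha
    exact ⟨a, (Ext.mk₀_bijective _ _).1 ha⟩
  choose a ha using hl
  refine ⟨Pi.lift a, ?_⟩
  apply Pi.hom_ext
  intro t
  simp [ha]

end

variable [EnoughInjectives 𝒜]

/-- The short exact sequence `0 ⟶ F ⟶ I(F) ⟶ Q ⟶ 0`. -/
noncomputable def sesUnder (F : 𝒜) : ShortComplex 𝒜 :=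
  ShortComplex.mk (Injective.ι F) (cokernel.π (Injective.ι F)) (cokernel.condition _)

lemma sesUnder_shortExact (F : 𝒜) : (sesUnder F).ShortExact where
  exact := ShortComplex.exact_cokernel _
  mono_f := inferInstanceAs (Mono (Injective.ι F))
  epi_g := inferInstanceAs (Epi (cokernel.π (Injective.ι F)))

instance (F : 𝒜) : Injective (sesUnder F).X₂ := inferInstanceAs (Injective (Injective.under F))

lemma zAcyc_of_injective {β : Type*} (Z : β → 𝒜) (F : T → 𝒜) (h : ∀ t, Injective (F t)) :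
    ZAcyc Z F := fun _ _ _ x => Ext.eq_zero_of_injective x

lemma zAcyc_X₃ {β : Type*} (Z : β → 𝒜) (E : T → ShortComplex 𝒜) (hE : ∀ t, (E t).ShortExact)
    (hI : ∀ t, Injective (E t).X₂) (h : ZAcyc Z (fun t => (E t).X₁)) :
    ZAcyc Z (fun t => (E t).X₃) := by
  intro b t k x
  obtain ⟨y, rfl⟩ := Ext.covariant_sequence_exact₃ (Z b) (hE t) x
    (rfl : k + 1 + 1 = k + 1 + 1) (h b t (k + 1) _)
  rw [Ext.eq_zero_of_injective y, Ext.zero_comp]

omit [EnoughInjectives 𝒜] in
lemma cmp_succ_bijective_aux (E : T → ShortComplex 𝒜) (hE : ∀ t, (E t).ShortExact)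
    (hI : ∀ t, Injective (E t).X₂) (hS : (prodSC E).ShortExact) (A : 𝒜) (i : ℕ)
    (bQ : Function.Bijective (cmp (fun t => (E t).X₃) A i))
    (bI : Function.Bijective (cmp (fun t => (E t).X₂) A i)) :
    Function.Bijective (cmp (fun t => (E t).X₁) A (i + 1)) := by
  have hinj : Injective (prodSC E).X₂ := by dsimp; infer_instance
  have nat : ∀ t, hS.extClass.comp (Ext.mk₀ (Pi.π (fun t => (E t).X₁) t)) (add_zero 1) =
      (Ext.mk₀ (Pi.π (fun t => (E t).X₃) t)).comp (hE t).extClass (zero_add 1) := fun t =>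
    ShortComplex.ShortExact.extClass_naturality hS (hE t) (prodSCπ E t)
  constructor
  · -- injectivity
    rw [injective_iff_map_eq_zero]
    intro x hx
    obtain ⟨y, rfl⟩ := Ext.covariant_sequence_exact₁ A hS x (Ext.eq_zero_of_injective _)
      (rfl : i + 1 = i + 1)
    have h1 : ∀ t, (y.comp (Ext.mk₀ (Pi.π (fun t => (E t).X₃) t)) (add_zero i)).comp
        (hE t).extClass (rfl : i + 1 = i + 1) = 0 := by
      intro t
      have := congrFun hx t
      rw [cmp_apply, Ext.comp_assoc_of_third_deg_zero, nat t] at this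
      rw [Ext.comp_assoc_of_second_deg_zero]
      exact this
    choose a ha using fun t => Ext.covariant_sequence_exact₃ A (hE t) _ rfl (h1 t)
    obtain ⟨a', ha'⟩ := bI.2 a
    have hy : y = a'.comp (Ext.mk₀ (prodSC E).g) (add_zero i) := by
      apply bQ.1
      funext t
      rw [cmp_apply, cmp_apply, Ext.comp_assoc_of_second_deg_zero, Ext.mk₀_comp_mk₀]
      have e1 : (prodSC E).g ≫ Pi.π (fun t => (E t).X₃) t =
          Pi.π (fun t => (E t).X₂) t ≫ (E t).g := by
        simp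
      rw [e1, ← Ext.mk₀_comp_mk₀, ← Ext.comp_assoc_of_second_deg_zero]
      have := congrFun ha' t
      rw [cmp_apply] at this
      rw [this, ha t]
    rw [hy, Ext.comp_assoc_of_second_deg_zero, hS.comp_extClass, Ext.comp_zero]
  · -- surjectivity
    intro ξ
    have h2 : ∀ t, ∃ y : Ext A (E t).X₃ i, y.comp (hE t).extClass rfl = ξ t := fun t =>
      Ext.covariant_sequence_exact₁ A (hE t) (ξ t) (Ext.eq_zero_of_injective _)
        (rfl : i + 1 = i + 1)
    choose y hy using h2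
    obtain ⟨y', hy'⟩ := bQ.2 y
    refine ⟨y'.comp hS.extClass rfl, ?_⟩
    funext t
    rw [cmp_apply, Ext.comp_assoc_of_third_deg_zero, nat t,
      ← Ext.comp_assoc_of_second_deg_zero]
    have := congrFun hy' t
    rw [cmp_apply] at this
    rw [this, hy t]

theorem cmp_bijective {β : Type*} {Z : β → 𝒜} (hZ : Gen Z) :
    ∀ (i : ℕ) (F : T → 𝒜), ZAcyc Z F → ∀ A : 𝒜, Function.Bijective (cmp F A i) := by
  intro i
  induction i with
  | zero => intro F _ A; exact cmp_zero_bijective F A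
  | succ i ih =>
    intro F hF A
    let E : T → ShortComplex 𝒜 := fun t => sesUnder (F t)
    have hE : ∀ t, (E t).ShortExact := fun t => sesUnder_shortExact (F t)
    have hI : ∀ t, Injective (E t).X₂ := fun t => by dsimp [E]; infer_instance
    have hQ : ZAcyc Z (fun t => (E t).X₃) := zAcyc_X₃ Z E hE hI hF
    have hIa : ZAcyc Z (fun t => (E t).X₂) := zAcyc_of_injective Z _ hI
    have : ∀ t, Mono (E t).f := fun t => (hE t).mono_f
    have hS : (prodSC E).ShortExact :=
      { exact := prodSC_exact hE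
        mono_f := by dsimp; infer_instance
        epi_g := prodSC_epi_g hZ hE (fun b t x => hF b t 0 x) }
    exact cmp_succ_bijective_aux E hE hI hS A i (ih _ hQ A) (ih _ hIa A)

end Groth.Agent.Lib.Helper23.Tower
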