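import Groth.Agent.Lib.Helper23.Tower.ExtProdCmp
import Groth.Prelude.Def_Formal2
import Mathlib.CategoryTheory.Functor.OfSequence

/-!
# `Ext` into the limit of a tower: the Milnor sequence (helper23)

`𝒜` abelian with enough injectives and countable products, `G : ℕᵒᵖ ⥤ 𝒜` a tower with a limit,
`Z : β → 𝒜` a family detecting zero morphisms such that `Ext^{k+1}(Z b, G_n) = 0` and morphisms
`Z b ⟶ G_n` lift along the transition maps.  Then `0 ⟶ lim G ⟶ ∏ G_n ⟶ ∏ G_n ⟶ 0` is short exact and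
for every `A` there is a short exact sequence
`0 ⟶ lim¹ Ext^j(A, G_n) ⟶ Ext^{j+1}(A, lim G) ⟶ lim Ext^{j+1}(A, G_n) ⟶ 0`.
-/

set_option autoImplicit false

universe w v u

open CategoryTheory Limits Abelian Opposite

namespace Groth.Agent.Lib.Helper23.Tower

/-- kernel ≃ quotient from a four-term exact sequence -/
lemma ker_equiv_quot {P E Q : Type*} [AddCommGroup P] [AddCommGroup E] [AddCommGroup Q]
    (D : P →+ P) (δ : P →+ E) (κ : E →+ Q)
    (h1 : ∀ x, δ x = 0 ↔ x ∈ D.range) (h2 : ∀ e, κ e = 0 ↔ e ∈ δ.range) :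
    Nonempty (κ.ker ≃+ P ⧸ D.range) := by
  let Φ : P →+ κ.ker := δ.codRestrict κ.ker (fun x => (h2 _).2 ⟨x, rfl⟩)
  have hsurj : Function.Surjective Φ := by
    rintro ⟨e, he⟩
    obtain ⟨x, rfl⟩ := (h2 e).1 he
    exact ⟨x, rfl⟩
  have hker : Φ.ker = D.range := by
    ext x
    rw [AddMonoidHom.mem_ker, ← h1]
    constructor
    · intro h; exact congrArg Subtype.val h
    · intro h; exact Subtype.ext h
  exact ⟨((QuotientAddGroup.quotientAddEquivOfEq hker).symm.trans
    (QuotientAddGroup.quotientKerEquivOfSurjective Φ hsurj)).symm⟩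

variable {𝒜 : Type u} [Category.{v} 𝒜] [Abelian 𝒜] [HasExt.{w} 𝒜]

variable (G : ℕᵒᵖ ⥤ 𝒜)

/-- objects of the tower -/
abbrev tObj (n : ℕ) : 𝒜 := G.obj (op n)

/-- transition maps of the tower -/
abbrev tMap (n : ℕ) : tObj G (n + 1) ⟶ tObj G n := G.map (homOfLE (Nat.le_succ n)).op

variable [HasProductsOfShape ℕ 𝒜]

/-- `1 - shift` on the product -/
noncomputable def tD : ∏ᶜ (tObj G) ⟶ ∏ᶜ (tObj G) :=
  Pi.lift (fun n => Pi.π (tObj G) n - Pi.π (tObj G) (n + 1) ≫ tMap G n)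

@[reassoc (attr := simp)]
lemma tD_π (n : ℕ) :
    tD G ≫ Pi.π (tObj G) n = Pi.π (tObj G) n - Pi.π (tObj G) (n + 1) ≫ tMap G n := by
  simp [tD]

section Cone

variable {G} (c : Cone G)

/-- the map from the apex of a cone into the product -/
noncomputable def tιC : c.pt ⟶ ∏ᶜ (tObj G) := Pi.lift (fun n => c.π.app (op n))

@[reassoc (attr := simp)]
lemma tιC_π (n : ℕ) : tιC c ≫ Pi.π (tObj G) n = c.π.app (op n) := by
  simp [tιC]

lemma tιC_tD : tιC c ≫ tD G = 0 := by
  apply Pi.hom_ext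
  intro n
  rw [Category.assoc, tD_π, Preadditive.comp_sub, tιC_π, tιC_π_assoc, zero_comp, sub_eq_zero]
  exact (c.w (homOfLE (Nat.le_succ n)).op).symm

/-- the short complex `c.pt ⟶ ∏ G_n ⟶ ∏ G_n` -/
noncomputable abbrev tSCC : ShortComplex 𝒜 := ShortComplex.mk (tιC c) (tD G) (tιC_tD c)

variable {c} (hc : IsLimit c)

include hc in
lemma tιC_mono : Mono (tιC c) := by
  constructor
  intro W a b hab
  apply hc.hom_ext
  rintro ⟨n⟩
  have := congrArg (fun z => z ≫ Pi.π (tObj G) n) hab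
  simpa using this

include hc in
lemma tSCC_exact : (tSCC c).Exact := by
  haveI : Mono (tSCC c).f := tιC_mono hc
  apply ShortComplex.exact_of_f_is_kernel
  refine KernelFork.IsLimit.ofι' _ _ fun {W} h hh => ?_
  have hk : ∀ n, (h ≫ Pi.π (tObj G) (n + 1)) ≫ tMap G n = h ≫ Pi.π (tObj G) n := by
    intro n
    have := congrArg (fun z => z ≫ Pi.π (tObj G) n) hh
    simp only [Category.assoc, tD_π, Preadditive.comp_sub, zero_comp, sub_eq_zero] at this
    rw [Category.assoc]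
    exact this.symm
  let c' : Cone G :=
    { pt := W
      π := NatTrans.ofOpSequence (fun n => h ≫ Pi.π (tObj G) n) (fun n => by
        simp only [Functor.const_obj_obj, Functor.const_obj_map, Category.id_comp]
        exact (hk n).symm) }
  refine ⟨hc.lift c', ?_⟩
  apply Pi.hom_ext
  intro n
  have := hc.fac c' (op n)
  simpa [c'] using this

end Cone

lemma tD_epi {β : Type*} {Z : β → 𝒜} (hZ : Gen Z)
    (hlift : ∀ (b : β) (n : ℕ) (h : Z b ⟶ tObj G n),
      ∃ h' : Z b ⟶ tObj G (n + 1), h' ≫ tMap G n = h) : Epi (tD G) := by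
  apply epi_of_gen hZ
  intro b g
  choose L hL using hlift b
  let x : ∀ n, Z b ⟶ tObj G n := fun n =>
    Nat.rec (motive := fun n => Z b ⟶ tObj G n) 0
      (fun n xn => L n (xn - g ≫ Pi.π (tObj G) n)) n
  have hx : ∀ n, x (n + 1) ≫ tMap G n = x n - g ≫ Pi.π (tObj G) n := fun n => hL n _
  refine ⟨Pi.lift x, ?_⟩
  apply Pi.hom_ext
  intro n
  rw [Category.assoc, tD_π, Preadditive.comp_sub, Pi.lift_π, Pi.lift_π_assoc, hx]
  abel

/-- transition maps on `Ext` -/
noncomputable abbrev tPost (A : 𝒜) (k : ℕ) (n : ℕ) :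
    Ext A (tObj G (n + 1)) k →+ Ext A (tObj G n) k :=
  (Ext.mk₀ (tMap G n)).postcomp A (add_zero k)

lemma cmp_tD (A : 𝒜) (k : ℕ) (x : Ext A (∏ᶜ tObj G) k) :
    cmp (tObj G) A k (x.comp (Ext.mk₀ (tD G)) (add_zero k)) =
      Formal2.towerDiff _ (tPost G A k) (cmp (tObj G) A k x) := by
  funext n
  rw [cmp_apply, Ext.comp_assoc_of_second_deg_zero, Ext.mk₀_comp_mk₀, tD_π, sub_eq_add_neg,
    Ext.mk₀_add, Ext.mk₀_neg, Ext.comp_add, Ext.comp_neg, ← Ext.mk₀_comp_mk₀,
    ← Ext.comp_assoc_of_second_deg_zero, ← sub_eq_add_neg]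
  rfl

section Cone

variable {G} (c : Cone G)

/-- projection maps on `Ext` for a cone -/
noncomputable def piMapC (A : 𝒜) (k : ℕ) : Ext A c.pt k →+ ∀ n, Ext A (tObj G n) k :=
  AddMonoidHom.pi fun n => (Ext.mk₀ (c.π.app (op n))).postcomp A (add_zero k)

lemma piMapC_apply (A : 𝒜) (k : ℕ) (η : Ext A c.pt k) (n : ℕ) :
    piMapC c A k η n = η.comp (Ext.mk₀ (c.π.app (op n))) (add_zero k) := rfl

lemma cmp_tιC (A : 𝒜) (k : ℕ) (η : Ext A c.pt k) :
    cmp (tObj G) A k (η.comp (Ext.mk₀ (tιC c)) (add_zero k)) = piMapC c A k η := by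
  funext n
  rw [cmp_apply, Ext.comp_assoc_of_second_deg_zero, Ext.mk₀_comp_mk₀, tιC_π]
  rfl

lemma piMapC_mem_limZero (A : 𝒜) (k : ℕ) (η : Ext A c.pt k) :
    piMapC c A k η ∈ Formal2.limZero (fun n => Ext A (tObj G n) k) (tPost G A k) := by
  rw [AddMonoidHom.mem_ker]
  funext n
  show piMapC c A k η n - tPost G A k n (piMapC c A k η (n + 1)) = 0
  rw [sub_eq_zero, piMapC_apply, piMapC_apply]
  show _ = (η.comp (Ext.mk₀ (c.π.app (op (n + 1)))) (add_zero k)).comp
    (Ext.mk₀ (tMap G n)) (add_zero k)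
  rw [Ext.comp_assoc_of_second_deg_zero, Ext.mk₀_comp_mk₀]
  congr 2
  exact (c.w (homOfLE (Nat.le_succ n)).op).symm

variable [EnoughInjectives 𝒜]

omit [EnoughInjectives 𝒜] in
lemma tSCC_shortExact {c : Cone G} (hc : IsLimit c) (hepi : Epi (tD G)) : (tSCC c).ShortExact :=
  { exact := tSCC_exact hc
    mono_f := tιC_mono hc
    epi_g := hepi }

/-- The Milnor sequence for `Ext` into the apex of a limit cone over a tower, assuming that
`1 - shift` is an epimorphism. -/
theorem tower_main_cone_of_epi {c : Cone G} (hc : IsLimit c) {β : Type*} {Z : β → 𝒜} (hZ : Gen Z)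
    (hacyc : ZAcyc Z (tObj G)) (hepi : Epi (tD G))
    (A : 𝒜) (j : ℕ) :
    (∀ ξ : ∀ n, Ext A (tObj G n) (j + 1), (∀ n, tPost G A (j + 1) n (ξ (n + 1)) = ξ n) →
      ∃ η : Ext A c.pt (j + 1), piMapC c A (j + 1) η = ξ) ∧
    Nonempty ((piMapC c A (j + 1)).ker ≃+
      Formal2.limOne (fun n => Ext A (tObj G n) j) (tPost G A j)) := by
  have hS : (tSCC c).ShortExact := tSCC_shortExact hc hepi
  have b0 := cmp_bijective hZ j (tObj G) hacyc A
  have b1 := cmp_bijective hZ (j + 1) (tObj G) hacyc A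
  constructor
  · intro ξ hξ
    obtain ⟨x, hx⟩ := b1.2 ξ
    have hx0 : x.comp (Ext.mk₀ (tSCC c).g) (add_zero _) = 0 := by
      apply b1.1
      rw [map_zero]
      refine (cmp_tD G A (j + 1) x).trans ?_
      rw [hx]
      funext n
      show ξ n - tPost G A (j + 1) n (ξ (n + 1)) = 0
      rw [hξ n, sub_self]
    obtain ⟨η, hη⟩ := Ext.covariant_sequence_exact₂ A hS x hx0
    refine ⟨η, ?_⟩
    rw [← cmp_tιC]
    exact (congrArg _ hη).trans hx
  · let e := AddEquiv.ofBijective (cmp (tObj G) A j) b0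
    let δ : (∀ n, Ext A (tObj G n) j) →+ Ext A c.pt (j + 1) :=
      (hS.extClass.postcomp A (rfl : j + 1 = j + 1)).comp e.symm.toAddMonoidHom
    have hδ : ∀ x, δ x = (e.symm x).comp hS.extClass rfl := fun x => rfl
    have he : ∀ x', e x' = cmp (tObj G) A j x' := fun x' => rfl
    refine ker_equiv_quot (Formal2.towerDiff _ (tPost G A j)) δ (piMapC c A (j + 1)) ?_ ?_
    · intro x
      constructor
      · intro h
        rw [hδ] at h
        obtain ⟨y, hy⟩ := Ext.covariant_sequence_exact₃ A hS (e.symm x) rfl h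
        refine ⟨cmp (tObj G) A j y, ?_⟩
        rw [← cmp_tD]
        have : y.comp (Ext.mk₀ (tD G)) (add_zero j) = e.symm x := hy
        rw [this, ← he, AddEquiv.apply_symm_apply]
      · rintro ⟨z, rfl⟩
        obtain ⟨z', rfl⟩ := b0.2 z
        rw [hδ, ← cmp_tD, ← he, AddEquiv.symm_apply_apply]
        have : (z'.comp (Ext.mk₀ (tSCC c).g) (add_zero j)).comp hS.extClass rfl = 0 := by
          rw [Ext.comp_assoc_of_second_deg_zero, hS.comp_extClass, Ext.comp_zero]
        exact this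
    · intro η
      constructor
      · intro h
        have h' : η.comp (Ext.mk₀ (tSCC c).f) (add_zero _) = 0 := by
          apply b1.1
          rw [map_zero]
          exact (cmp_tιC c A (j + 1) η).trans h
        obtain ⟨x', hx'⟩ := Ext.covariant_sequence_exact₁ A hS η h' (rfl : j + 1 = j + 1)
        refine ⟨e x', ?_⟩
        rw [hδ, AddEquiv.symm_apply_apply]
        exact hx'
      · rintro ⟨x, rfl⟩
        rw [hδ, ← cmp_tιC]
        have : ((e.symm x).comp hS.extClass (rfl : j + 1 = j + 1)).comp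
            (Ext.mk₀ (tSCC c).f) (add_zero _) = 0 := by
          rw [Ext.comp_assoc_of_third_deg_zero, hS.extClass_comp, Ext.comp_zero]
        exact (congrArg _ this).trans (map_zero _)

/-- The Milnor sequence for `Ext` into the apex of a limit cone over a tower. -/
theorem tower_main_cone {c : Cone G} (hc : IsLimit c) {β : Type*} {Z : β → 𝒜} (hZ : Gen Z)
    (hacyc : ZAcyc Z (tObj G))
    (hlift : ∀ (b : β) (n : ℕ) (h : Z b ⟶ tObj G n),
      ∃ h' : Z b ⟶ tObj G (n + 1), h' ≫ tMap G n = h)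
    (A : 𝒜) (j : ℕ) :
    (∀ ξ : ∀ n, Ext A (tObj G n) (j + 1), (∀ n, tPost G A (j + 1) n (ξ (n + 1)) = ξ n) →
      ∃ η : Ext A c.pt (j + 1), piMapC c A (j + 1) η = ξ) ∧
    Nonempty ((piMapC c A (j + 1)).ker ≃+
      Formal2.limOne (fun n => Ext A (tObj G n) j) (tPost G A j)) :=
  tower_main_cone_of_epi hc hZ hacyc (tD_epi G hZ hlift) A j

/-- The Milnor short exact sequence, with explicit maps. -/
theorem tower_ses_cone {c : Cone G} (hc : IsLimit c) {β : Type*} {Z : β → 𝒜} (hZ : Gen Z)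
    (hacyc : ZAcyc Z (tObj G))
    (hlift : ∀ (b : β) (n : ℕ) (h : Z b ⟶ tObj G n),
      ∃ h' : Z b ⟶ tObj G (n + 1), h' ≫ tMap G n = h)
    (A : 𝒜) (j : ℕ) :
    ∃ (α : Formal2.limOne (fun n => Ext A (tObj G n) j) (tPost G A j) →+ Ext A c.pt (j + 1))
      (β : Ext A c.pt (j + 1) →+
        Formal2.limZero (fun n => Ext A (tObj G n) (j + 1)) (tPost G A (j + 1))),
      Function.Injective α ∧ Function.Surjective β ∧ α.range = β.ker ∧
      ∀ (x : Ext A c.pt (j + 1)) (n : ℕ),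
        (β x : ∀ n, Ext A (tObj G n) (j + 1)) n =
          x.comp (Ext.mk₀ (c.π.app (op n))) (add_zero (j + 1)) := by
  obtain ⟨h1, ⟨e⟩⟩ := tower_main_cone hc hZ hacyc hlift A j
  let β' : Ext A c.pt (j + 1) →+
      Formal2.limZero (fun n => Ext A (tObj G n) (j + 1)) (tPost G A (j + 1)) :=
    (piMapC c A (j + 1)).codRestrict _ (piMapC_mem_limZero c A (j + 1))
  refine ⟨(piMapC c A (j + 1)).ker.subtype.comp e.symm.toAddMonoidHom, β', ?_, ?_, ?_, ?_⟩
  · intro x y hxy
    exact e.symm.injective (Subtype.ext hxy)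
  · rintro ⟨ξ, hξ⟩
    have hξ' : ∀ n, tPost G A (j + 1) n (ξ (n + 1)) = ξ n := by
      intro n
      have := congrFun ((AddMonoidHom.mem_ker).1 hξ) n
      exact (sub_eq_zero.1 this).symm
    obtain ⟨η, hη⟩ := h1 ξ hξ'
    exact ⟨η, Subtype.ext hη⟩
  · ext x
    constructor
    · rintro ⟨q, rfl⟩
      rw [AddMonoidHom.mem_ker]
      apply Subtype.ext
      exact (e.symm q).2
    · intro hx
      rw [AddMonoidHom.mem_ker] at hx
      have hx' : x ∈ (piMapC c A (j + 1)).ker := congrArg Subtype.val hx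
      refine ⟨e ⟨x, hx'⟩, ?_⟩
      show ((e.symm (e ⟨x, hx'⟩) : (piMapC c A (j + 1)).ker) : Ext A c.pt (j + 1)) = x
      rw [AddEquiv.symm_apply_apply]
  · intro x n
    rfl

end Cone

variable [HasLimit G]

/-- the inclusion of the limit into the product -/
noncomputable abbrev tι : limit G ⟶ ∏ᶜ (tObj G) := tιC (limit.cone G)

/-- projection maps on `Ext` -/
noncomputable def piMap (A : 𝒜) (k : ℕ) : Ext A (limit G) k →+ ∀ n, Ext A (tObj G n) k :=
  AddMonoidHom.pi fun n => (Ext.mk₀ (limit.π G (op n))).postcomp A (add_zero k)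

lemma piMap_apply (A : 𝒜) (k : ℕ) (η : Ext A (limit G) k) (n : ℕ) :
    piMap G A k η n = η.comp (Ext.mk₀ (limit.π G (op n))) (add_zero k) := rfl

variable [EnoughInjectives 𝒜]

/-- The Milnor sequence for `Ext` into the limit of a tower. -/
theorem tower_main {β : Type*} {Z : β → 𝒜} (hZ : Gen Z)
    (hacyc : ZAcyc Z (tObj G))
    (hlift : ∀ (b : β) (n : ℕ) (h : Z b ⟶ tObj G n),
      ∃ h' : Z b ⟶ tObj G (n + 1), h' ≫ tMap G n = h)
    (A : 𝒜) (j : ℕ) :
    (∀ ξ : ∀ n, Ext A (tObj G n) (j + 1), (∀ n, tPost G A (j + 1) n (ξ (n + 1)) = ξ n) →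
      ∃ η : Ext A (limit G) (j + 1), piMap G A (j + 1) η = ξ) ∧
    Nonempty ((piMap G A (j + 1)).ker ≃+
      Formal2.limOne (fun n => Ext A (tObj G n) j) (tPost G A j)) :=
  tower_main_cone (limit.isLimit G) hZ hacyc hlift A j

end Groth.Agent.Lib.Helper23.Tower
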