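import Groth.Agent.Lib.Helper23.Tower.SiteTower
import Groth.Agent.Lib.Helper6.ModAbCoh
import Groth.Agent.Lib.Helper6.TotAcyc
import Groth.Agent.Lib.Helper6.ExtShift
import Groth.Agent.Lib.Helper8.SheafModGroth
import Mathlib.Algebra.Category.ModuleCat.Presheaf.Generator

/-!
# Sheaves of modules: the free module on an object of the site, and `Ext_R(R_U, M) ≅ H(U, M_ab)`
(helper23)
-/

set_option autoImplicit false

universe u

open CategoryTheory Limits Abelian Opposite

namespace Groth.Agent.Lib.Helper23.Tower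

open Groth.Agent.Lib.Helper6

variable {C : Type u} [SmallCategory C] {J : GrothendieckTopology C} (R : Sheaf J RingCat.{u})

/-- the free sheaf of modules on the object `U` of the site -/
noncomputable abbrev ZR (U : C) : SheafOfModules.{u} R :=
  (PresheafOfModules.sheafification (𝟙 R.obj)).obj
    ((PresheafOfModules.free R.obj).obj (yoneda.obj U))

/-- the right adjoint of sheafification -/
noncomputable abbrev fgt : SheafOfModules.{u} R ⥤ PresheafOfModules.{u} R.obj :=
  SheafOfModules.forget R ⋙ PresheafOfModules.restrictScalars (𝟙 R.obj)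

/-- `Hom(R_U, M) ≃ M(U)` -/
noncomputable def modHomEquiv (U : C) (M : SheafOfModules.{u} R) :
    (ZR R U ⟶ M) ≃ ((fgt R).obj M).obj (op U) :=
  ((PresheafOfModules.sheafificationAdjunction (𝟙 R.obj)).homEquiv _ M).trans
    PresheafOfModules.freeYonedaEquiv

lemma modHomEquiv_naturality (U : C) {M M' : SheafOfModules.{u} R} (φ : ZR R U ⟶ M)
    (g : M ⟶ M') :
    modHomEquiv R U M' (φ ≫ g) = ((fgt R).map g).app (op U) (modHomEquiv R U M φ) := by
  dsimp only [modHomEquiv, Equiv.trans_apply]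
  rw [Adjunction.homEquiv_naturality_right, PresheafOfModules.freeYonedaEquiv_comp]

/-- the universal section -/
noncomputable def modUniv (U : C) : ((fgt R).obj (ZR R U)).obj (op U) :=
  modHomEquiv R U (ZR R U) (𝟙 _)

lemma modHomEquiv_eq (U : C) (M : SheafOfModules.{u} R) (φ : ZR R U ⟶ M) :
    modHomEquiv R U M φ = ((fgt R).map φ).app (op U) (modUniv R U) := by
  rw [modUniv, ← modHomEquiv_naturality, Category.id_comp]

/-- sections of the underlying abelian sheaf -/
noncomputable def modSecEquiv (U : C) (M : SheafOfModules.{u} R) :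
    (ZR R U ⟶ M) ≃ ((SheafOfModules.toSheaf R).obj M).obj.obj (op U) :=
  modHomEquiv R U M

lemma modSecEquiv_naturality (U : C) {M M' : SheafOfModules.{u} R} (φ : ZR R U ⟶ M)
    (g : M ⟶ M') :
    modSecEquiv R U M' (φ ≫ g) =
      ((SheafOfModules.toSheaf R).map g).hom.app (op U) (modSecEquiv R U M φ) :=
  modHomEquiv_naturality R U φ g

lemma modSecEquiv_add (U : C) (M : SheafOfModules.{u} R) (φ ψ : ZR R U ⟶ M) :
    modSecEquiv R U M (φ + ψ) = modSecEquiv R U M φ + modSecEquiv R U M ψ := by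
  have h : ∀ χ : ZR R U ⟶ M, modSecEquiv R U M χ =
      ((SheafOfModules.toSheaf R).map χ).hom.app (op U) (modSecEquiv R U _ (𝟙 _)) := by
    intro χ
    rw [← modSecEquiv_naturality, Category.id_comp]
  rw [h φ, h ψ, h (φ + ψ), Functor.map_add]
  rfl

/-- `Hom(R_U, M) ≃+ M(U)` -/
noncomputable def modSecAddEquiv (U : C) (M : SheafOfModules.{u} R) :
    (ZR R U ⟶ M) ≃+ ((SheafOfModules.toSheaf R).obj M).obj.obj (op U) :=
  { modSecEquiv R U M with map_add' := modSecEquiv_add R U M }

/-- `Hom(R_U, M) ≃+ Hom(ℤ_U, M_ab)` -/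
noncomputable def modAbHomEquiv (U : C) (M : SheafOfModules.{u} R) :
    (ZR R U ⟶ M) ≃+ (SheafCoh.Zfree J U ⟶ (SheafOfModules.toSheaf R).obj M) :=
  (modSecAddEquiv R U M).trans (SheafCoh.homAddEquiv J U _).symm

lemma modAbHomEquiv_naturality (U : C) {M M' : SheafOfModules.{u} R} (φ : ZR R U ⟶ M)
    (g : M ⟶ M') :
    modAbHomEquiv R U M' (φ ≫ g) =
      modAbHomEquiv R U M φ ≫ (SheafOfModules.toSheaf R).map g := by
  apply (SheafCoh.homEquiv J U _).injective
  rw [SheafCoh.homEquiv_naturality_right]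
  show SheafCoh.homEquiv J U _ ((SheafCoh.homEquiv J U _).symm (modSecEquiv R U M' (φ ≫ g))) =
    ((SheafOfModules.toSheaf R).map g).hom.app (op U)
      (SheafCoh.homEquiv J U _ ((SheafCoh.homEquiv J U _).symm (modSecEquiv R U M φ)))
  rw [Equiv.apply_symm_apply, Equiv.apply_symm_apply, modSecEquiv_naturality]

variable [HasExt.{u} (SheafOfModules.{u} R)]

/-- degree zero comparison -/
noncomputable def extEquiv₀ (U : C) (M : SheafOfModules.{u} R) :
    Ext (ZR R U) M 0 ≃+ Ext (SheafCoh.Zfree J U) ((SheafOfModules.toSheaf R).obj M) 0 :=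
  Ext.addEquiv₀.trans ((modAbHomEquiv R U M).trans Ext.addEquiv₀.symm)

lemma extEquiv₀_naturality (U : C) {M M' : SheafOfModules.{u} R} (g : M ⟶ M')
    (x : Ext (ZR R U) M 0) :
    extEquiv₀ R U M' (x.comp (Ext.mk₀ g) (add_zero 0)) =
      (extEquiv₀ R U M x).comp (Ext.mk₀ ((SheafOfModules.toSheaf R).map g)) (add_zero 0) := by
  obtain ⟨φ, rfl⟩ := Ext.addEquiv₀.symm.surjective x
  simp only [extEquiv₀, AddEquiv.trans_apply, Ext.addEquiv₀_symm_apply, Ext.mk₀_comp_mk₀,
    ExtAdj.addEquiv₀_mk₀]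
  rw [modAbHomEquiv_naturality]

/-- the natural isomorphism in degree zero -/
noncomputable def θU (U : C) : extFunctorObj (ZR R U) 0 ≅
    SheafOfModules.toSheaf R ⋙ extFunctorObj (SheafCoh.Zfree J U) 0 :=
  NatIso.ofComponents (fun M => (extEquiv₀ R U M).toAddCommGrpIso) (fun {M M'} g => by
    ext x
    exact extEquiv₀_naturality R U g x)

/-- **`Ext^n_R(R_U, M) ≃ H^n(U, M_ab)`** -/
theorem nonempty_ext_addEquiv_U (U : C) (M : SheafOfModules.{u} R) (n : ℕ) :
    Nonempty (Ext (ZR R U) M n ≃+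
      Ext (SheafCoh.Zfree J U) ((SheafOfModules.toSheaf R).obj M) n) := by
  have := Groth.Agent.Lib.Helper8.SheafModGroth.enoughInjectives J R
  obtain ⟨e⟩ := DeltaCompare.delta_compare
    (fun n => extFunctorObj (ZR R U) n)
    (fun n => SheafOfModules.toSheaf R ⋙ extFunctorObj (SheafCoh.Zfree J U) n) (θU R U)
    (fun _ => True) (fun G _ => by
      have hE := ExtAcyc.sesUnder_shortExact G
      have hI : Injective (ExtAcyc.sesUnder G).X₂ := inferInstance
      refine ⟨_, _, (ExtAcyc.sesUnder G).f, (ExtAcyc.sesUnder G).g, trivial,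
        ExtShift.hasShift_ext _ _ hE (fun n x => Ext.eq_zero_of_injective x),
        ExtShift.hasShift_ext_comp (SheafOfModules.toSheaf R) (SheafCoh.Zfree J U) _
          (hE.map_of_exact (SheafOfModules.toSheaf R)) (fun n x => ?_)⟩
      have h := TotAcyc.subsingleton_HU J
        (InjModTotAcyc.totallyAcyclic R (ExtAcyc.sesUnder G).X₂) U n
      exact @Subsingleton.elim _ h _ _) n M trivial
  exact ⟨e.addCommGroupIsoToAddEquiv⟩

section ModGen

variable (B : Set C)

/-- the test objects in sheaves of modules -/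
noncomputable abbrev ZRs (V : B) : SheafOfModules.{u} R := ZR R (V : C)

lemma gen_ZRs (hB : Covers J B) : Gen (ZRs R B) := by
  intro P Q f hf
  apply (SheafOfModules.toSheaf R).map_injective
  rw [Functor.map_zero]
  apply gen_Zs B hB
  intro b g'
  obtain ⟨φ, rfl⟩ := (modAbHomEquiv R b.1 P).surjective g'
  rw [← modAbHomEquiv_naturality, hf b φ, map_zero]

omit [HasExt.{u} (SheafOfModules.{u} R)] in
lemma modSecEquiv_sub (U : C) (M : SheafOfModules.{u} R) (φ ψ : ZR R U ⟶ M) :
    modSecEquiv R U M (φ - ψ) = modSecEquiv R U M φ - modSecEquiv R U M ψ :=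
  map_sub (modSecAddEquiv R U M) φ ψ

variable (G : ℕᵒᵖ ⥤ SheafOfModules.{u} R)

lemma acyc_ZRs
    (h1 : ∀ U ∈ B, ∀ (p n : ℕ), Subsingleton
      (CohSite.HU ((SheafOfModules.toSheaf R).obj (G.obj (op n))) (p + 1) U)) :
    ZAcyc (ZRs R B) (tObj G) := by
  intro b n k x
  obtain ⟨e⟩ := nonempty_ext_addEquiv_U R b.1 (G.obj (op n)) (k + 1)
  haveI := h1 b.1 b.2 k n
  have h0 : e x = 0 := Subsingleton.elim
    (α := CohSite.HU ((SheafOfModules.toSheaf R).obj (G.obj (op n))) (k + 1) b.1) _ _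
  exact e.injective (h0.trans (map_zero e).symm)

lemma tD_epi_mod (hB : Covers J B)
    (h2 : ∀ U ∈ B, SecLimOneZero (G ⋙ SheafOfModules.toSheaf R) U) : Epi (tD G) := by
  apply epi_of_gen (gen_ZRs R B hB)
  intro b g
  obtain ⟨a, ha⟩ := h2 b.1 b.2 (fun n => modSecEquiv R b.1 _ (g ≫ Pi.π (tObj G) n))
  refine ⟨Pi.lift (fun n => (modSecEquiv R b.1 (tObj G n)).symm (a n)), ?_⟩
  apply Pi.hom_ext
  intro n
  apply (modSecEquiv R b.1 (tObj G n)).injective
  rw [Category.assoc, tD_π, Preadditive.comp_sub, Pi.lift_π, Pi.lift_π_assoc, modSecEquiv_sub,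
    modSecEquiv_naturality, Equiv.apply_symm_apply, Equiv.apply_symm_apply]
  exact congrFun ha n

/-- the limit of a tower of sheaves of modules, acyclic on `B` and with vanishing `lim¹` of
sections over `B`, is a derived limit in `D(R)` -/
theorem isRlim_mod (hB : Covers J B) [HasDerivedCategory.{u + 1} (SheafOfModules.{u} R)]
    [HasProduct fun n => (DerivedCategory.singleFunctor (SheafOfModules.{u} R) 0).obj (tObj G n)]
    {c : Cone G} (hc : IsLimit c)
    (h1 : ∀ U ∈ B, ∀ (p n : ℕ), Subsingleton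
      (CohSite.HU ((SheafOfModules.toSheaf R).obj (G.obj (op n))) (p + 1) U))
    (h2 : ∀ U ∈ B, SecLimOneZero (G ⋙ SheafOfModules.toSheaf R) U) :
    DCoh.IsRlim (fun n => (DerivedCategory.singleFunctor _ 0).obj (tObj G n))
      (fun n => (DerivedCategory.singleFunctor _ 0).map (tMap G n))
      ((DerivedCategory.singleFunctor _ 0).obj c.pt) := by
  haveI := Groth.Agent.Lib.Helper8.SheafModGroth.enoughInjectives J R
  exact isRlim_of_tower G hc (gen_ZRs R B hB) (acyc_ZRs R B G h1) (tD_epi_mod R B G hB h2)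

end ModGen

end Groth.Agent.Lib.Helper23.Tower
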