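import Groth.Agent.Lib.Helper23.Tower.ExtTower
import Groth.Agent.Lib.Helper6.SheafCoh
import Groth.Prelude.Def_CohTop
import Mathlib.Topology.Sheaves.SheafCondition.UniqueGluing

/-!
# Cohomology of the limit of a tower of abelian sheaves on a space (helper23)

The free sheaves `ℤ_V`, `V` in a basis `B`, detect zero morphisms; a tower `F : ℕᵒᵖ ⥤ Ab X`
whose transition maps are surjective on sections over `B` and whose terms are acyclic on `B` satisfies the
hypotheses of `Tower.tower_main`.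
-/

set_option autoImplicit false

universe u

open CategoryTheory Limits Abelian Opposite TopologicalSpace

namespace Groth.Agent.Lib.Helper23.Tower

open Groth.Agent.Lib.Helper6

variable {X : TopCat.{u}}

/-- the test objects: free abelian sheaves on basis opens -/
noncomputable abbrev Zb (B : Set (Opens X)) (V : B) : CohTop.Ab X :=
  SheafCoh.Zfree (Opens.grothendieckTopology X) (V : Opens X)

lemma homEquiv_zero (V : Opens X) (Q : CohTop.Ab X) :
    SheafCoh.homEquiv (Opens.grothendieckTopology X) V Q 0 = 0 :=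
  map_zero (SheafCoh.homAddEquiv (Opens.grothendieckTopology X) V Q)

lemma gen_Zb (B : Set (Opens X)) (hB : Opens.IsBasis B) : Gen (Zb B) := by
  intro P Q f hf
  ext U s
  induction U using Opposite.rec with | _ U => ?_
  -- sections vanish locally on basis opens
  have hloc : ∀ (V : Opens X) (hV : V ∈ B) (hVU : V ≤ U),
      Q.obj.map (homOfLE hVU).op (f.hom.app (op U) s) = 0 := by
    intro V hV hVU
    have h1 : Q.obj.map (homOfLE hVU).op (f.hom.app (op U) s) =
        f.hom.app (op V) (P.obj.map (homOfLE hVU).op s) := by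
      have := f.hom.naturality (homOfLE hVU).op
      exact (ConcreteCategory.congr_hom this s).symm
    rw [h1]
    have h2 := hf ⟨V, hV⟩
      ((SheafCoh.homEquiv (Opens.grothendieckTopology X) V P).symm (P.obj.map (homOfLE hVU).op s))
    have h3 := congrArg (SheafCoh.homEquiv (Opens.grothendieckTopology X) V Q) h2
    rw [SheafCoh.homEquiv_naturality_right, Equiv.apply_symm_apply, homEquiv_zero] at h3
    exact h3
  let ι : Type u := {V : Opens X // V ∈ B ∧ V ≤ U}
  have hcover : U ≤ iSup (fun i : ι => (i.1 : Opens X)) := by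
    intro x hx
    obtain ⟨V, hV, hxV, hVU⟩ := Opens.isBasis_iff_nbhd.1 hB hx
    exact Opens.mem_iSup.2 ⟨⟨V, hV, hVU⟩, hxV⟩
  refine TopCat.Sheaf.eq_of_locally_eq' (F := (⟨Q.obj, Q.property⟩ : TopCat.Sheaf AddCommGrpCat X))
    (fun i : ι => (i.1 : Opens X)) U (fun i => homOfLE i.2.2) hcover _ _ ?_
  intro i
  refine (hloc i.1 i.2.1 i.2.2).trans ?_
  exact (map_zero _).symm

lemma lift_Zb (B : Set (Opens X)) (F : ℕᵒᵖ ⥤ CohTop.Ab X)
    (hsurj : ∀ V ∈ B, ∀ n : ℕ,
      Function.Surjective ((F.map (homOfLE (Nat.le_succ n)).op).hom.app (op V)).hom)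
    (b : B) (n : ℕ) (h : Zb B b ⟶ tObj F n) :
    ∃ h' : Zb B b ⟶ tObj F (n + 1), h' ≫ tMap F n = h := by
  obtain ⟨s, hs⟩ := hsurj b.1 b.2 n
    (SheafCoh.homEquiv (Opens.grothendieckTopology X) b.1 _ h)
  refine ⟨(SheafCoh.homEquiv (Opens.grothendieckTopology X) b.1 _).symm s, ?_⟩
  apply (SheafCoh.homEquiv (Opens.grothendieckTopology X) b.1 _).injective
  rw [SheafCoh.homEquiv_naturality_right, Equiv.apply_symm_apply]
  exact hs

lemma acyc_Zb (B : Set (Opens X)) (F : ℕᵒᵖ ⥤ CohTop.Ab X)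
    (hvan : ∀ V ∈ B, ∀ (n i : ℕ), 0 < i → Subsingleton (CohTop.HU (F.obj (op n)) i V)) :
    ZAcyc (Zb B) (tObj F) := by
  intro b n k x
  haveI := hvan b.1 b.2 n (k + 1) (Nat.succ_pos k)
  exact Subsingleton.elim (α := CohTop.HU (F.obj (op n)) (k + 1) b.1) x 0

/-- The Milnor sequence for `Ext(A, -)` and a tower of sheaves acyclic on a basis. -/
theorem sheaf_tower_main (F : ℕᵒᵖ ⥤ CohTop.Ab X)
    (B : Set (Opens X)) (hB : Opens.IsBasis B)
    (hsurj : ∀ V ∈ B, ∀ n : ℕ,
      Function.Surjective ((F.map (homOfLE (Nat.le_succ n)).op).hom.app (op V)).hom)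
    (hvan : ∀ V ∈ B, ∀ (n i : ℕ), 0 < i → Subsingleton (CohTop.HU (F.obj (op n)) i V))
    (A : CohTop.Ab X) (j : ℕ) :
    (∀ ξ : ∀ n, Ext A (tObj F n) (j + 1), (∀ n, tPost F A (j + 1) n (ξ (n + 1)) = ξ n) →
      ∃ η : Ext A (limit F) (j + 1), piMap F A (j + 1) η = ξ) ∧
    Nonempty ((piMap F A (j + 1)).ker ≃+
      Formal2.limOne (fun n => Ext A (tObj F n) j) (tPost F A j)) :=
  tower_main F (gen_Zb B hB) (acyc_Zb B F hvan) (lift_Zb B F hsurj) A j

/-- cone version of `sheaf_tower_main` -/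
theorem sheaf_tower_main_cone (F : ℕᵒᵖ ⥤ CohTop.Ab X) {c : Cone F} (hc : IsLimit c)
    (B : Set (Opens X)) (hB : Opens.IsBasis B)
    (hsurj : ∀ V ∈ B, ∀ n : ℕ,
      Function.Surjective ((F.map (homOfLE (Nat.le_succ n)).op).hom.app (op V)).hom)
    (hvan : ∀ V ∈ B, ∀ (n i : ℕ), 0 < i → Subsingleton (CohTop.HU (F.obj (op n)) i V))
    (A : CohTop.Ab X) (j : ℕ) :
    (∀ ξ : ∀ n, Ext A (tObj F n) (j + 1), (∀ n, tPost F A (j + 1) n (ξ (n + 1)) = ξ n) →
      ∃ η : Ext A c.pt (j + 1), piMapC c A (j + 1) η = ξ) ∧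
    Nonempty ((piMapC c A (j + 1)).ker ≃+
      Formal2.limOne (fun n => Ext A (tObj F n) j) (tPost F A j)) :=
  tower_main_cone hc (gen_Zb B hB) (acyc_Zb B F hvan) (lift_Zb B F hsurj) A j

/-- the Milnor short exact sequence with explicit maps, cone version -/
theorem sheaf_tower_ses_cone (F : ℕᵒᵖ ⥤ CohTop.Ab X) {c : Cone F} (hc : IsLimit c)
    (B : Set (Opens X)) (hB : Opens.IsBasis B)
    (hsurj : ∀ V ∈ B, ∀ n : ℕ,
      Function.Surjective ((F.map (homOfLE (Nat.le_succ n)).op).hom.app (op V)).hom)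
    (hvan : ∀ V ∈ B, ∀ (n i : ℕ), 0 < i → Subsingleton (CohTop.HU (F.obj (op n)) i V))
    (A : CohTop.Ab X) (j : ℕ) :
    ∃ (α : Formal2.limOne (fun n => Ext A (tObj F n) j) (tPost F A j) →+ Ext A c.pt (j + 1))
      (β : Ext A c.pt (j + 1) →+
        Formal2.limZero (fun n => Ext A (tObj F n) (j + 1)) (tPost F A (j + 1))),
      Function.Injective α ∧ Function.Surjective β ∧ α.range = β.ker ∧
      ∀ (x : Ext A c.pt (j + 1)) (n : ℕ),
        (β x : ∀ n, Ext A (tObj F n) (j + 1)) n =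
          x.comp (Ext.mk₀ (c.π.app (op n))) (add_zero (j + 1)) :=
  tower_ses_cone hc (gen_Zb B hB) (acyc_Zb B F hvan) (lift_Zb B F hsurj) A j

end Groth.Agent.Lib.Helper23.Tower
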