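import Groth.Agent.Lib.Helper23.Tower.DerProd
import Groth.Agent.Lib.Helper6.SheafCoh
import Groth.Prelude.Def_CohSite
import Groth.Prelude.Def_CohCx

/-!
# Towers of abelian sheaves on a small site: the limit is a derived limit (helper23)
-/

set_option autoImplicit false

universe u

open CategoryTheory Limits Abelian Opposite

namespace Groth.Agent.Lib.Helper23.Tower

open Groth.Agent.Lib.Helper6

variable {C : Type u} [SmallCategory C] {J : GrothendieckTopology C}

/-- the test objects: free abelian sheaves on the objects of `B` -/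
noncomputable abbrev Zs (J : GrothendieckTopology C) (B : Set C) (V : B) :
    Sheaf J AddCommGrpCat.{u} :=
  SheafCoh.Zfree J (V : C)

lemma homEquiv_zero' (V : C) (Q : Sheaf J AddCommGrpCat.{u}) :
    SheafCoh.homEquiv J V Q 0 = 0 :=
  map_zero (SheafCoh.homAddEquiv J V Q)

lemma homEquiv_sub' (V : C) (Q : Sheaf J AddCommGrpCat.{u}) (φ ψ : SheafCoh.Zfree J V ⟶ Q) :
    SheafCoh.homEquiv J V Q (φ - ψ) = SheafCoh.homEquiv J V Q φ - SheafCoh.homEquiv J V Q ψ :=
  map_sub (SheafCoh.homAddEquiv J V Q) φ ψ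

/-- the covering hypothesis on the class `B` -/
def Covers (J : GrothendieckTopology C) (B : Set C) : Prop :=
  ∀ U : C, ∃ (ι : Type u) (Y : ι → C) (f : ∀ i, Y i ⟶ U),
    Sieve.ofArrows Y f ∈ J U ∧ ∀ i, Y i ∈ B

lemma gen_Zs (B : Set C) (hB : Covers J B) : Gen (Zs J B) := by
  intro P Q f hf
  ext U s
  induction U using Opposite.rec with | _ U => ?_
  obtain ⟨ι, Y, g, hcov, hY⟩ := hB U
  have hloc : ∀ i, Q.obj.map (g i).op (f.hom.app (op U) s) = 0 := by
    intro i
    have h1 : Q.obj.map (g i).op (f.hom.app (op U) s) =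
        f.hom.app (op (Y i)) (P.obj.map (g i).op s) := by
      have := f.hom.naturality (g i).op
      exact (ConcreteCategory.congr_hom this s).symm
    rw [h1]
    have h2 := hf ⟨Y i, hY i⟩
      ((SheafCoh.homEquiv J (Y i) P).symm (P.obj.map (g i).op s))
    have h3 := congrArg (SheafCoh.homEquiv J (Y i) Q) h2
    rw [SheafCoh.homEquiv_naturality_right, Equiv.apply_symm_apply, homEquiv_zero'] at h3
    exact h3
  have hQ : Presieve.IsSheaf J (Q.obj ⋙ forget AddCommGrpCat.{u}) :=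
    (isSheaf_iff_isSheaf_of_type J _).1
      ((Presheaf.isSheaf_iff_isSheaf_forget J Q.obj (forget AddCommGrpCat.{u})).1 Q.property)
  have hsep : Presieve.IsSeparatedFor (Q.obj ⋙ forget AddCommGrpCat.{u})
      (Presieve.ofArrows Y g) :=
    ((Presieve.isSheafFor_iff_generate (Presieve.ofArrows Y g)).2
      (hQ (Sieve.ofArrows Y g) hcov)).isSeparatedFor
  refine hsep.ext ?_
  rintro _ _ ⟨i⟩
  refine (hloc i).trans ?_
  exact (map_zero (Q.obj.map (g i).op).hom).symm

section Tower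

variable (G : ℕᵒᵖ ⥤ Sheaf J AddCommGrpCat.{u})

/-- vanishing of `lim¹` of the sections of the tower over `U` -/
def SecLimOneZero (U : C) : Prop :=
  Function.Surjective (fun (a : ∀ n, (G.obj (op n)).obj.obj (op U)) (n : ℕ) =>
    a n - ((G.map (homOfLE (Nat.le_succ n)).op).hom.app (op U)).hom (a (n + 1)))

lemma tD_epi_of_secLimOneZero (B : Set C) (hB : Covers J B)
    (h2 : ∀ U ∈ B, SecLimOneZero G U) : Epi (tD G) := by
  apply epi_of_gen (gen_Zs B hB)
  intro b g
  obtain ⟨a, ha⟩ := h2 b.1 b.2 (fun n => SheafCoh.homEquiv J b.1 _ (g ≫ Pi.π (tObj G) n))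
  refine ⟨Pi.lift (fun n => (SheafCoh.homEquiv J b.1 (tObj G n)).symm (a n)), ?_⟩
  apply Pi.hom_ext
  intro n
  apply (SheafCoh.homEquiv J b.1 (tObj G n)).injective
  rw [Category.assoc, tD_π, Preadditive.comp_sub, Pi.lift_π, Pi.lift_π_assoc, homEquiv_sub',
    SheafCoh.homEquiv_naturality_right, Equiv.apply_symm_apply, Equiv.apply_symm_apply]
  exact congrFun ha n

lemma acyc_Zs (B : Set C)
    (h1 : ∀ U ∈ B, ∀ (p n : ℕ), Subsingleton (CohSite.HU (G.obj (op n)) (p + 1) U)) :
    ZAcyc (Zs J B) (tObj G) := by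
  intro b n k x
  haveI := h1 b.1 b.2 k n
  exact Subsingleton.elim (α := CohSite.HU (G.obj (op n)) (k + 1) b.1) x 0

lemma towerDiff_surj_ext_zero (U : C) (h : SecLimOneZero G U) :
    Function.Surjective (Formal2.towerDiff (fun n => Ext (SheafCoh.Zfree J U) (tObj G n) 0)
      (tPost G (SheafCoh.Zfree J U) 0)) := by
  intro y
  choose φ hφ using fun n => (Ext.mk₀_bijective _ _).2 (y n)
  obtain ⟨a, ha⟩ := h (fun n => SheafCoh.homEquiv J U _ (φ n))
  refine ⟨fun n => Ext.mk₀ ((SheafCoh.homEquiv J U (tObj G n)).symm (a n)), funext fun n => ?_⟩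
  show Ext.mk₀ ((SheafCoh.homEquiv J U (tObj G n)).symm (a n)) -
    (Ext.mk₀ ((SheafCoh.homEquiv J U (tObj G (n + 1))).symm (a (n + 1)))).comp
      (Ext.mk₀ (tMap G n)) (add_zero 0) = y n
  rw [Ext.mk₀_comp_mk₀, ← hφ n, sub_eq_add_neg, ← Ext.mk₀_neg, ← Ext.mk₀_add, ← sub_eq_add_neg]
  congr 1
  apply (SheafCoh.homEquiv J U (tObj G n)).injective
  rw [homEquiv_sub', SheafCoh.homEquiv_naturality_right, Equiv.apply_symm_apply,
    Equiv.apply_symm_apply]
  exact congrFun ha n

/-- acyclicity of the limit on `B` -/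
theorem subsingleton_HU_lim (B : Set C) (hB : Covers J B) {c : Cone G} (hc : IsLimit c)
    (h1 : ∀ U ∈ B, ∀ (p n : ℕ), Subsingleton (CohSite.HU (G.obj (op n)) (p + 1) U))
    (h2 : ∀ U ∈ B, SecLimOneZero G U) (U : C) (hU : U ∈ B) (p : ℕ) :
    Subsingleton (CohSite.HU c.pt (p + 1) U) := by
  obtain ⟨-, ⟨e⟩⟩ := tower_main_cone_of_epi hc (gen_Zs B hB) (acyc_Zs G B h1)
    (tD_epi_of_secLimOneZero G B hB h2) (SheafCoh.Zfree J U) p
  have hvan : ∀ (n k : ℕ), Subsingleton (Ext (SheafCoh.Zfree J U) (tObj G n) (k + 1)) :=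
    fun n k => h1 U hU k n
  have hlim : Subsingleton (Formal2.limOne (fun n => Ext (SheafCoh.Zfree J U) (tObj G n) p)
      (tPost G (SheafCoh.Zfree J U) p)) := by
    cases p with
    | zero =>
      have hs := towerDiff_surj_ext_zero G U (h2 U hU)
      refine ⟨fun a b => ?_⟩
      obtain ⟨x, rfl⟩ := QuotientAddGroup.mk_surjective a
      obtain ⟨y, rfl⟩ := QuotientAddGroup.mk_surjective b
      rw [QuotientAddGroup.eq]
      exact hs _
    | succ k =>
      haveI := fun n => hvan n k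
      refine ⟨fun a b => ?_⟩
      obtain ⟨x, rfl⟩ := QuotientAddGroup.mk_surjective a
      obtain ⟨y, rfl⟩ := QuotientAddGroup.mk_surjective b
      rw [Subsingleton.elim x y]
  haveI := fun n => hvan n p
  refine ⟨fun a b => ?_⟩
  have hmem : ∀ η : Ext (SheafCoh.Zfree J U) c.pt (p + 1),
      η ∈ (piMapC c (SheafCoh.Zfree J U) (p + 1)).ker := fun η => Subsingleton.elim _ _
  have h0 : (⟨a, hmem a⟩ : (piMapC c (SheafCoh.Zfree J U) (p + 1)).ker) = ⟨b, hmem b⟩ :=
    e.injective (Subsingleton.elim _ _)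
  exact congrArg Subtype.val h0

/-- the limit of a tower acyclic on `B` is a derived limit -/
theorem isRlim_site (B : Set C) (hB : Covers J B)
    [HasDerivedCategory.{u} (Sheaf J AddCommGrpCat.{u})]
    [HasProduct fun n => (DerivedCategory.singleFunctor (Sheaf J AddCommGrpCat.{u}) 0).obj
      (tObj G n)]
    {c : Cone G} (hc : IsLimit c)
    (h1 : ∀ U ∈ B, ∀ (p n : ℕ), Subsingleton (CohSite.HU (G.obj (op n)) (p + 1) U))
    (h2 : ∀ U ∈ B, SecLimOneZero G U) :
    DCoh.IsRlim (fun n => (DerivedCategory.singleFunctor _ 0).obj (tObj G n))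
      (fun n => (DerivedCategory.singleFunctor _ 0).map (tMap G n))
      ((DerivedCategory.singleFunctor _ 0).obj c.pt) :=
  isRlim_of_tower G hc (gen_Zs B hB) (acyc_Zs G B h1) (tD_epi_of_secLimOneZero G B hB h2)

end Tower

end Groth.Agent.Lib.Helper23.Tower
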